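import Mathlib

/-!
# Spreading out a regular sequence from `R_p` to some `R_g` (helper85)
-/

set_option autoImplicit false
set_option linter.style.haveILetI false
universe u

namespace Groth.Agent.Lib.Helper85.Vasc

open RingTheory.Sequence

section elementwise

variable {A : Type*} [CommRing A]

theorem isWeaklyRegular_self_iff (rs : List A) :
    IsWeaklyRegular A rs ↔ ∀ (i : ℕ) (hi : i < rs.length) (x : A),
      rs[i] * x ∈ Ideal.ofList (rs.take i) → x ∈ Ideal.ofList (rs.take i) := by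
  rw [isWeaklyRegular_iff]
  refine forall_congr' fun i => forall_congr' fun hi => ?_
  rw [isSMulRegular_quotient_iff_mem_of_smul_mem]
  have h : (Ideal.ofList (rs.take i) • ⊤ : Submodule A A) = Ideal.ofList (rs.take i) := by
    rw [Ideal.smul_eq_mul, Ideal.mul_top]
  simp only [h, smul_eq_mul]

theorem ofList_map_mul_unit (φ : A → A) (hφ : ∀ y, ∃ u, IsUnit u ∧ φ y = y * u) (l : List A) :
    Ideal.ofList (l.map φ) = Ideal.ofList l := by
  induction l with
  | nil => rfl
  | cons a l ih =>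
    rw [List.map_cons, Ideal.ofList_cons, Ideal.ofList_cons, ih]
    congr 1
    obtain ⟨u, hu, h⟩ := hφ a
    rw [h, Ideal.span_singleton_mul_right_unit hu]

theorem isWeaklyRegular_map_mul_unit (φ : A → A) (hφ : ∀ y, ∃ u, IsUnit u ∧ φ y = y * u)
    (rs : List A) (h : IsWeaklyRegular A rs) : IsWeaklyRegular A (rs.map φ) := by
  rw [isWeaklyRegular_self_iff] at h ⊢
  intro i hi x hx
  rw [List.length_map] at hi
  rw [← List.map_take, ofList_map_mul_unit φ hφ] at hx ⊢
  rw [List.getElem_map] at hx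
  obtain ⟨u, hu, hφu⟩ := hφ rs[i]
  rw [hφu, mul_assoc] at hx
  have h1 := h i hi (u * x) hx
  obtain ⟨v, hv⟩ := hu.exists_left_inv
  have : x = v * (u * x) := by rw [← mul_assoc, hv, one_mul]
  rw [this]
  exact Ideal.mul_mem_left _ _ h1

end elementwise

section loc

variable {R : Type u} [CommRing R] (S : Submonoid R) (B : Type u) [CommRing B] [Algebra R B]
  [IsLocalization S B]

theorem exists_mul_mem_of_algebraMap_mem (K : Ideal R) (x : R)
    (hx : algebraMap R B x ∈ K.map (algebraMap R B)) : ∃ t ∈ S, t * x ∈ K := by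
  obtain ⟨⟨⟨k, hk⟩, t⟩, hkt⟩ := (IsLocalization.mem_map_algebraMap_iff S B).mp hx
  have h1 : algebraMap R B (x * t) = algebraMap R B k := by rw [map_mul]; exact hkt
  obtain ⟨c, hc⟩ := (IsLocalization.eq_iff_exists S B).mp h1
  refine ⟨c * t, S.mul_mem c.2 t.2, ?_⟩
  have : (c : R) * t * x = c * k := by rw [← hc]; ring
  rw [this]
  exact K.mul_mem_left _ hk

theorem exists_uniform_mul_mem (C K : Ideal R) (hC : C.FG)
    (h : ∀ r ∈ C, ∃ t ∈ S, t * r ∈ K) : ∃ t ∈ S, ∀ r ∈ C, t * r ∈ K := by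
  classical
  obtain ⟨s, rfl⟩ := hC
  have hs : ∀ r ∈ s, ∃ t ∈ S, t * r ∈ K := fun r hr => h r (Ideal.subset_span hr)
  clear h
  induction s using Finset.induction_on with
  | empty =>
    refine ⟨1, S.one_mem, fun r hr => ?_⟩
    simp only [Finset.coe_empty, Ideal.span_empty, Ideal.mem_bot] at hr
    rw [hr, mul_zero]; exact K.zero_mem
  | insert a s ha ih =>
    obtain ⟨t₁, ht₁, h₁⟩ := ih fun r hr => hs r (Finset.mem_insert_of_mem hr)
    obtain ⟨t₂, ht₂, h₂⟩ := hs a (Finset.mem_insert_self a s)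
    refine ⟨t₁ * t₂, S.mul_mem ht₁ ht₂, fun r hr => ?_⟩
    rw [Finset.coe_insert, Ideal.span_insert] at hr
    obtain ⟨u, hu, w, hw, rfl⟩ := Submodule.mem_sup.mp hr
    obtain ⟨c, rfl⟩ := Ideal.mem_span_singleton'.mp hu
    have e : t₁ * t₂ * (c * a + w) = (t₁ * c) * (t₂ * a) + t₂ * (t₁ * w) := by ring
    rw [e]
    exact K.add_mem (K.mul_mem_left _ h₂) (K.mul_mem_left _ (h₁ w hw))

end loc

section main

variable {R : Type u} [CommRing R]

theorem mem_map_of_unit_mul_mem {A : Type*} [CommRing A] [Algebra R A] (K : Ideal R) (t x : R)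
    (ht : IsUnit (algebraMap R A t)) (h : t * x ∈ K) :
    algebraMap R A x ∈ K.map (algebraMap R A) := by
  have h1 := Ideal.mem_map_of_mem (algebraMap R A) h
  rw [map_mul] at h1
  exact (Ideal.unit_mul_mem_iff_mem _ ht).mp h1

theorem exists_regular_away [IsNoetherianRing R] (I : Ideal R) (p : Ideal R) [p.IsPrime]
    (hIp : I ≤ p)
    (rs' : List (Localization.AtPrime p)) (hreg : IsWeaklyRegular (Localization.AtPrime p) rs')
    (hrs' : Ideal.ofList rs' = I.map (algebraMap R (Localization.AtPrime p))) :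
    ∃ g : R, g ∉ p ∧ ∃ rs : List (Localization.Away g),
      IsRegular (Localization.Away g) rs ∧
      Ideal.ofList rs = I.map (algebraMap R (Localization.Away g)) := by
  classical
  let B := Localization.AtPrime p
  let S := p.primeCompl
  -- Step 1: numerators
  let φ : B → B := fun y => algebraMap R B (IsLocalization.sec S y).1
  have hφ : ∀ y, ∃ u, IsUnit u ∧ φ y = y * u := fun y =>
    ⟨algebraMap R B (IsLocalization.sec S y).2, IsLocalization.map_units B _,
      (IsLocalization.sec_spec S y).symm⟩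
  let as : List R := rs'.map (fun y => (IsLocalization.sec S y).1)
  have has : as.map (algebraMap R B) = rs'.map φ := by
    simp only [as, List.map_map]; rfl
  have hreg2 : IsWeaklyRegular B (as.map (algebraMap R B)) := by
    rw [has]; exact isWeaklyRegular_map_mul_unit φ hφ rs' hreg
  have hof : (Ideal.ofList as).map (algebraMap R B) = I.map (algebraMap R B) := by
    rw [Ideal.map_ofList, has, ofList_map_mul_unit φ hφ, hrs']
  rw [isWeaklyRegular_self_iff] at hreg2
  -- Step 2: colon ideals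
  have hcol : ∀ i : Fin as.length, ∃ t ∈ S, ∀ r : R,
      as[i] * r ∈ Ideal.ofList (as.take i) → t * r ∈ Ideal.ofList (as.take i) := by
    intro i
    let K := Ideal.ofList (as.take i)
    let C : Ideal R := K.colon {as[i]}
    have hC : ∀ r, r ∈ C ↔ as[i] * r ∈ K := by
      intro r
      rw [Submodule.mem_colon_singleton, smul_eq_mul, mul_comm]
    have h1 : ∀ r ∈ C, ∃ t ∈ S, t * r ∈ K := by
      intro r hr
      apply exists_mul_mem_of_algebraMap_mem S B
      have h2 := hreg2 i ((List.length_map (as := as) (algebraMap R B)).symm ▸ i.2) (algebraMap R B r)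
      rw [List.getElem_map, ← List.map_take, ← Ideal.map_ofList, ← map_mul] at h2
      exact h2 (Ideal.mem_map_of_mem _ ((hC r).mp hr))
    obtain ⟨t, ht, h3⟩ := exists_uniform_mul_mem S C K (IsNoetherian.noetherian C) h1
    exact ⟨t, ht, fun r hr => h3 r ((hC r).mpr hr)⟩
  choose gi hgiS hgi using hcol
  -- Step 3: comparing I and ofList as
  obtain ⟨t₁, ht₁S, ht₁⟩ : ∃ t ∈ S, ∀ r ∈ I, t * r ∈ Ideal.ofList as := by
    apply exists_uniform_mul_mem S I _ (IsNoetherian.noetherian I)
    intro r hr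
    apply exists_mul_mem_of_algebraMap_mem S B
    rw [hof]
    exact Ideal.mem_map_of_mem _ hr
  obtain ⟨t₂, ht₂S, ht₂⟩ : ∃ t ∈ S, ∀ r ∈ Ideal.ofList as, t * r ∈ I := by
    apply exists_uniform_mul_mem S _ I (IsNoetherian.noetherian _)
    intro r hr
    apply exists_mul_mem_of_algebraMap_mem S B
    rw [← hof]
    exact Ideal.mem_map_of_mem _ hr
  -- Step 4
  let g : R := t₁ * t₂ * ∏ i, gi i
  have hgS : g ∈ S := S.mul_mem (S.mul_mem ht₁S ht₂S) (S.prod_mem fun i _ => hgiS i)
  refine ⟨g, hgS, ?_⟩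
  let A := Localization.Away g
  have hgu : IsUnit (algebraMap R A g) := IsLocalization.Away.algebraMap_isUnit g
  have hdvd : ∀ d : R, d ∣ g → IsUnit (algebraMap R A d) := fun d hd =>
    isUnit_of_dvd_unit (map_dvd (algebraMap R A) hd) hgu
  have hu₁ : IsUnit (algebraMap R A t₁) := hdvd _ (Dvd.intro _ (mul_assoc t₁ t₂ _).symm)
  have hu₂ : IsUnit (algebraMap R A t₂) :=
    hdvd _ ⟨t₁ * ∏ i, gi i, by simp only [g]; ring⟩
  have hui : ∀ i, IsUnit (algebraMap R A (gi i)) := fun i =>
    hdvd _ (Dvd.dvd.mul_left (Finset.dvd_prod_of_mem gi (Finset.mem_univ i)) _)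
  have hpow : ∀ m : ℕ, IsUnit (algebraMap R A (g ^ m)) := fun m => by
    rw [map_pow]; exact hgu.pow m
  have hofA : Ideal.ofList (as.map (algebraMap R A)) = I.map (algebraMap R A) := by
    rw [← Ideal.map_ofList]
    apply le_antisymm
    · rw [Ideal.map_le_iff_le_comap]
      intro x hx
      exact mem_map_of_unit_mul_mem I t₂ x hu₂ (ht₂ x hx)
    · rw [Ideal.map_le_iff_le_comap]
      intro x hx
      exact mem_map_of_unit_mul_mem _ t₁ x hu₁ (ht₁ x hx)
  refine ⟨as.map (algebraMap R A), ⟨?_, ?_⟩, hofA⟩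
  · rw [isWeaklyRegular_self_iff]
    intro i hi x hx
    rw [List.length_map] at hi
    rw [List.getElem_map, ← List.map_take, ← Ideal.map_ofList] at hx
    rw [← List.map_take, ← Ideal.map_ofList]
    obtain ⟨⟨r, ⟨_, k, rfl⟩⟩, hrx⟩ := IsLocalization.surj (Submonoid.powers g) x
    simp only at hrx
    -- alg (as[i] * r) ∈ K.map
    have h1 : algebraMap R A (as[i] * r) ∈ (Ideal.ofList (as.take i)).map (algebraMap R A) := by
      rw [map_mul, ← hrx, ← mul_assoc]
      exact Ideal.mul_mem_right _ _ hx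
    obtain ⟨_, ⟨m, rfl⟩, hm⟩ :=
      exists_mul_mem_of_algebraMap_mem (Submonoid.powers g) A _ _ h1
    have h2 : as[i] * (g ^ m * r) ∈ Ideal.ofList (as.take i) := by
      have : as[i] * (g ^ m * r) = g ^ m * (as[i] * r) := by ring
      rw [this]; exact hm
    have h3 := hgi ⟨i, hi⟩ _ h2
    have h4 : algebraMap R A r ∈ (Ideal.ofList (as.take i)).map (algebraMap R A) := by
      have h5 := mem_map_of_unit_mul_mem (A := A) _ _ _ (hui ⟨i, hi⟩) h3
      rw [map_mul] at h5
      exact (Ideal.unit_mul_mem_iff_mem _ (hpow m)).mp h5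
    rw [← hrx] at h4
    exact (Ideal.mul_unit_mem_iff_mem _ (hpow k)).mp h4
  · rw [Ideal.smul_eq_mul, Ideal.mul_top, hofA]
    intro htop
    have h1 : algebraMap R A 1 ∈ I.map (algebraMap R A) := by rw [← htop]; trivial
    obtain ⟨_, ⟨m, rfl⟩, hm⟩ :=
      exists_mul_mem_of_algebraMap_mem (Submonoid.powers g) A _ _ h1
    rw [mul_one] at hm
    exact hgS (Ideal.IsPrime.mem_of_pow_mem inferInstance m (hIp hm))

end main

end Groth.Agent.Lib.Helper85.Vasc
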