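import Groth.Agent.Lib.Helper85.Vasc.Descend
import Groth.Agent.Lib.Helper73.PdQuotient

/-!
# The projective dimension step in Vasconcelos' theorem (helper85)

`y ∈ J` a nonzerodivisor, `ψ : J → B/J` linear with `ψ y = 1`, `pd_B J < n + 1`.
Then `pd_{B/y} (J (B/y)) < n + 1`: `J/(y)` is a retract of `J/yJ`.
-/

set_option autoImplicit false
set_option linter.style.haveILetI false
set_option maxSynthPendingDepth 3
universe u

namespace Groth.Agent.Lib.Helper85.Vasc

open CategoryTheory Groth.Agent.Lib.Helper73.PdQuotient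

variable {B : Type u} [CommRing B]

theorem hasProjectiveDimensionLT_map_quotient (J : Ideal B) (y : B) (hyJ : y ∈ J)
    (hy : IsSMulRegular B y) (ψ : J →ₗ[B] B ⧸ J) (hψ : ψ ⟨y, hyJ⟩ = 1) (n : ℕ)
    (hpd : HasProjectiveDimensionLT (ModuleCat.of B J) (n + 1)) :
    HasProjectiveDimensionLT (ModuleCat.of (B ⧸ Ideal.span {y})
      (J.map (algebraMap B (B ⧸ Ideal.span {y})))) (n + 1) := by
  set K : Ideal B := Ideal.span {y} with hK
  set J' := J.map (algebraMap B (B ⧸ K)) with hJ'
  set Q := J ⧸ (K • ⊤ : Submodule B J) with hQ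
  have hJreg : IsSMulRegular J y := isSMulRegular_submodule y hy J
  have hpdQ : HasProjectiveDimensionLT (ModuleCat.of (B ⧸ K) Q) (n + 1) :=
    hasProjectiveDimensionLT_quot y hy n J hJreg hpd
  set y₁ : J := ⟨y, hyJ⟩ with hy₁
  let f : J →ₗ[B] J' := Algebra.idealMap (B ⧸ K) J
  have hsurj : Function.Surjective f := by
    rintro ⟨j', hj'⟩
    obtain ⟨b, hb, rfl⟩ := (Ideal.mem_map_iff_of_surjective _ Ideal.Quotient.mk_surjective).mp hj'
    exact ⟨⟨b, hb⟩, rfl⟩
  have hfy : f y₁ = 0 := by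
    apply Subtype.ext
    show algebraMap B (B ⧸ K) y = 0
    exact Ideal.Quotient.eq_zero_iff_mem.mpr (Ideal.subset_span rfl)
  -- r : Q → J'
  have hr : (K • ⊤ : Submodule B J) ≤ LinearMap.ker f := by
    rw [Submodule.smul_le]
    intro k hk b _
    obtain ⟨t, rfl⟩ := Ideal.mem_span_singleton'.mp hk
    rw [LinearMap.mem_ker]
    have : (t * y) • b = (t • (b : B)) • y₁ := by
      apply Subtype.ext
      show t * y * (b : B) = t * (b : B) * y
      ring
    rw [this, map_smul, hfy, smul_zero]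
  let r₀ : Q →ₗ[B] J' := Submodule.liftQ _ f hr
  -- τ : B/J → Q
  have hτ : J ≤ LinearMap.ker (LinearMap.toSpanSingleton B Q (Submodule.Quotient.mk y₁)) := by
    intro j hj
    rw [LinearMap.mem_ker, LinearMap.toSpanSingleton_apply, ← Submodule.Quotient.mk_smul,
      Submodule.Quotient.mk_eq_zero]
    have : j • y₁ = y • (⟨j, hj⟩ : J) := by
      apply Subtype.ext
      show j * y = y * j
      ring
    rw [this]
    exact Submodule.smul_mem_smul (Ideal.subset_span rfl) Submodule.mem_top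
  let τ : B ⧸ J →ₗ[B] Q := Submodule.liftQ J (LinearMap.toSpanSingleton B Q
    (Submodule.Quotient.mk y₁)) hτ
  have hτ1 : τ 1 = Submodule.Quotient.mk y₁ := by
    show τ (Submodule.Quotient.mk 1) = _
    rw [Submodule.liftQ_apply, LinearMap.toSpanSingleton_apply, one_smul]
  let σ : J →ₗ[B] Q := (Submodule.mkQ _) - τ ∘ₗ ψ
  have hσy : σ y₁ = 0 := by
    show Submodule.Quotient.mk y₁ - τ (ψ y₁) = 0
    rw [hψ, hτ1, sub_self]
  have hker : LinearMap.ker f ≤ LinearMap.ker σ := by
    intro b hb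
    rw [LinearMap.mem_ker] at hb ⊢
    have h1 : algebraMap B (B ⧸ K) (b : B) = 0 := congrArg Subtype.val hb
    have h2 : (b : B) ∈ K := Ideal.Quotient.eq_zero_iff_mem.mp h1
    obtain ⟨t, ht⟩ := Ideal.mem_span_singleton'.mp h2
    have : b = t • y₁ := by
      apply Subtype.ext
      exact ht.symm
    rw [this, map_smul, hσy, smul_zero]
  let s₀ : J' →ₗ[B] Q :=
    (Submodule.liftQ (LinearMap.ker f) σ hker) ∘ₗ (f.quotKerEquivOfSurjective hsurj).symm.toLinearMap
  have hs₀ : ∀ b : J, s₀ (f b) = σ b := by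
    intro b
    show Submodule.liftQ (LinearMap.ker f) σ hker ((f.quotKerEquivOfSurjective hsurj).symm (f b)) = _
    rw [LinearMap.quotKerEquivOfSurjective_symm_apply, Submodule.liftQ_apply]
  have hrτ : ∀ q : B ⧸ J, r₀ (τ q) = 0 := by
    intro q
    obtain ⟨t, rfl⟩ := Ideal.Quotient.mk_surjective q
    show r₀ (τ (Submodule.Quotient.mk t)) = 0
    rw [Submodule.liftQ_apply, LinearMap.toSpanSingleton_apply, map_smul]
    show t • r₀ (Submodule.Quotient.mk y₁) = 0
    rw [Submodule.liftQ_apply, hfy, smul_zero]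
  have hrs : ∀ j' : J', r₀ (s₀ j') = j' := by
    intro j'
    obtain ⟨b, rfl⟩ := hsurj j'
    rw [hs₀]
    show r₀ (Submodule.Quotient.mk b - τ (ψ b)) = f b
    rw [map_sub, hrτ, sub_zero]
    rfl
  let r : Q →ₗ[B ⧸ K] J' := r₀.extendScalarsOfSurjective Ideal.Quotient.mk_surjective
  let s : J' →ₗ[B ⧸ K] Q := s₀.extendScalarsOfSurjective Ideal.Quotient.mk_surjective
  have hret : Retract (ModuleCat.of (B ⧸ K) J') (ModuleCat.of (B ⧸ K) Q) :=
    { i := ModuleCat.ofHom s
      r := ModuleCat.ofHom r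
      retract := by
        rw [← ModuleCat.ofHom_comp]
        ext j'
        exact congrArg Subtype.val (hrs j') }
  exact hret.hasProjectiveDimensionLT (n + 1)

end Groth.Agent.Lib.Helper85.Vasc
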