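import Groth.Agent.Lib.Helper85.Vasc.Avoid
import Groth.Agent.Lib.Helper85.Vasc.PdStep
import Groth.Agent.Lib.Helper85.RegularSeq

/-!
# Vasconcelos' lemma: lifting a free direct summand of `J/J²` to a regular sequence (helper85)

`B` Noetherian local, `J` a proper ideal of finite projective dimension, `a i ∈ J` and functionals
`ψ i : J → B/J` with `ψ i (a j) = δ i j`.  Then there is a regular sequence `x i ≡ a i mod J²`.
-/

set_option autoImplicit false
set_option linter.style.haveILetI false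
set_option maxSynthPendingDepth 3
universe u

namespace Groth.Agent.Lib.Helper85.Vasc

open CategoryTheory IsLocalRing RingTheory.Sequence

theorem vasc_seq : ∀ (r : ℕ) (B : Type u) [CommRing B] [IsLocalRing B] [IsNoetherianRing B]
    (J : Ideal B) (_ : J ≠ ⊤) (n : ℕ) (_ : HasProjectiveDimensionLT (ModuleCat.of B J) n)
    (a : Fin r → B) (ha : ∀ i, a i ∈ J) (ψ : Fin r → (J →ₗ[B] B ⧸ J))
    (_ : ∀ i j, ψ i ⟨a j, ha j⟩ = if i = j then 1 else 0),
    ∃ x : Fin r → B, (∀ i, x i - a i ∈ J ^ 2) ∧ IsRegular B (List.ofFn x) := by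
  intro r
  induction r with
  | zero =>
    intro B _ _ _ J hJ n hpd a ha ψ hψ
    refine ⟨Fin.elim0, fun i => i.elim0, ?_⟩
    rw [List.ofFn_zero]
    exact IsRegular.nil B B
  | succ r ih =>
    intro B _ _ _ J hJ n hpd a ha ψ hψ
    classical
    have hψ₀a : ψ 0 ⟨a 0, ha 0⟩ = 1 := by rw [hψ 0 0, if_pos rfl]
    obtain ⟨y₀, hy₀J, hy₀x, hy₀nzd⟩ := exists_nzd J hJ n hpd (a 0) (ha 0) (ψ 0) hψ₀a
    have hψy : ∀ i, ψ i ⟨y₀, hy₀J⟩ = ψ i ⟨a 0, ha 0⟩ := by
      intro i
      have : (⟨y₀, hy₀J⟩ : J) = ⟨a 0, ha 0⟩ + ⟨y₀ - a 0, J.sub_mem hy₀J (ha 0)⟩ := by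
        ext; simp
      rw [this, map_add, apply_eq_zero_of_mem_sq J (ψ i) ⟨y₀ - a 0, J.sub_mem hy₀J (ha 0)⟩ hy₀x,
        add_zero]
    have hψ₀y : ψ 0 ⟨y₀, hy₀J⟩ = 1 := by rw [hψy, hψ₀a]
    have hreg : IsSMulRegular B y₀ := Module.Flat.isSMulRegular_of_nonZeroDivisors hy₀nzd
    set K : Ideal B := Ideal.span {y₀} with hK
    have hKJ : K ≤ J := (Ideal.span_singleton_le_iff_mem J).mpr hy₀J
    have hKtop : K ≠ ⊤ := fun h => hJ (top_le_iff.mp (h ▸ hKJ))
    haveI : IsLocalRing (B ⧸ K) := isLocalRing_quotient K hKtop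
    set J' := J.map (algebraMap B (B ⧸ K)) with hJ'
    have hker : RingHom.ker (algebraMap B (B ⧸ K)) = K := Ideal.mk_ker
    have hcomap : J'.comap (algebraMap B (B ⧸ K)) = J := by
      rw [hJ', Ideal.comap_map_of_surjective (algebraMap B (B ⧸ K)) Ideal.Quotient.mk_surjective,
        ← RingHom.ker_eq_comap_bot, hker]
      exact sup_eq_left.mpr hKJ
    have hJ'top : J' ≠ ⊤ := by
      intro h
      apply hJ
      rw [← hcomap, h, Ideal.comap_top]
    have hpd' : HasProjectiveDimensionLT (ModuleCat.of (B ⧸ K) J') (n + 1) :=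
      hasProjectiveDimensionLT_map_quotient J y₀ hy₀J hreg (ψ 0) hψ₀y n
        (hasProjectiveDimensionLT_of_ge _ n (n + 1) (Nat.le_succ n))
    have hθK : ∀ (i : Fin r) (b : J), (b : B) ∈ K → ψ i.succ b = 0 := by
      intro i b hb
      obtain ⟨t, ht⟩ := Ideal.mem_span_singleton'.mp hb
      have : b = t • (⟨y₀, hy₀J⟩ : J) := Subtype.ext ht.symm
      rw [this, map_smul, hψy, hψ i.succ 0, if_neg (Fin.succ_ne_zero i), smul_zero]
    choose θ' hθ' using fun i : Fin r => exists_descend J K (ψ i.succ) (hθK i)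
    let a' : Fin r → B ⧸ K := fun i => algebraMap B (B ⧸ K) (a i.succ)
    have ha' : ∀ i, a' i ∈ J' := fun i => Ideal.mem_map_of_mem _ (ha _)
    have hψ' : ∀ i j, θ' i ⟨a' j, ha' j⟩ = if i = j then 1 else 0 := by
      intro i j
      have h3 : θ' i ⟨a' j, ha' j⟩ = Ideal.quotientMap J' (algebraMap B (B ⧸ K))
          Ideal.le_comap_map (ψ i.succ ⟨a j.succ, ha j.succ⟩) := hθ' i ⟨a j.succ, ha j.succ⟩
      rw [h3, hψ]
      by_cases hij : i = j
      · rw [if_pos hij, if_pos (congrArg Fin.succ hij), map_one]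
      · rw [if_neg hij, if_neg (fun h => hij (Fin.succ_injective _ h)), map_zero]
    obtain ⟨x', hx', hreg'⟩ := ih (B ⧸ K) J' hJ'top (n + 1) hpd' a' ha' θ' hψ'
    have hmap : (J ^ 2 ⊔ K).map (algebraMap B (B ⧸ K)) = J' ^ 2 := by
      have hKmap : K.map (algebraMap B (B ⧸ K)) = ⊥ := Ideal.map_quotient_self K
      rw [Ideal.map_sup, Ideal.map_pow, hKmap, sup_bot_eq]
    have hlift : ∀ i : Fin r, ∃ z : B, Ideal.Quotient.mk K z = x' i ∧ z - a i.succ ∈ J ^ 2 := by
      intro i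
      obtain ⟨z₀, hz₀⟩ := Ideal.Quotient.mk_surjective (x' i)
      have h1 : z₀ - a i.succ ∈
          ((J ^ 2 ⊔ K).map (algebraMap B (B ⧸ K))).comap (algebraMap B (B ⧸ K)) := by
        rw [Ideal.mem_comap, hmap, map_sub]
        have := hx' i
        rw [← hz₀] at this
        exact this
      rw [Ideal.comap_map_of_surjective (algebraMap B (B ⧸ K)) Ideal.Quotient.mk_surjective,
        ← RingHom.ker_eq_comap_bot, hker, sup_assoc, sup_idem] at h1
      obtain ⟨j, hj, k, hk, hjk⟩ := Submodule.mem_sup.mp h1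
      refine ⟨z₀ - k, ?_, ?_⟩
      · rw [map_sub, hz₀, Ideal.Quotient.eq_zero_iff_mem.mpr hk, sub_zero]
      · have : z₀ - k - a i.succ = j := by linear_combination -hjk
        rw [this]; exact hj
    choose z hz hza using hlift
    refine ⟨Fin.cons y₀ z, ?_, ?_⟩
    · intro i
      refine Fin.cases ?_ (fun i => ?_) i
      · simpa using hy₀x
      · simpa using hza i
    · rw [List.ofFn_cons, isRegular_cons_iff_quotient]
      refine ⟨hreg, ?_⟩
      rw [List.map_ofFn]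
      have : (Ideal.Quotient.mk (Ideal.span {y₀})) ∘ z = x' := funext hz
      rw [this]
      exact hreg'

end Groth.Agent.Lib.Helper85.Vasc
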