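import Groth.Agent.Lib.Helper85.Vasc.DepthZero

/-!
# An ideal of finite projective dimension is not contained in an associated prime (helper85)

provided it contains an element `x₁` with `ann x₁ ⊆ I` (e.g. a basis element of `I/I²`).
-/

set_option autoImplicit false
set_option linter.style.haveILetI false
universe u

namespace Groth.Agent.Lib.Helper85.Vasc

open CategoryTheory IsLocalRing

theorem not_le_of_mem_associatedPrimes {A : Type u} [CommRing A] [IsNoetherianRing A]
    (I : Ideal A) (n : ℕ) (hpd : HasProjectiveDimensionLT (ModuleCat.of A I) n)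
    (x₁ : A) (hx₁ : x₁ ∈ I) (hann : ∀ s : A, s * x₁ = 0 → s ∈ I)
    (P : Ideal A) (hP : P ∈ associatedPrimes A A) : ¬ I ≤ P := by
  intro hIP
  rw [AssociatedPrimes.mem_iff, isAssociatedPrime_iff] at hP
  obtain ⟨hprime, z, hz⟩ := hP
  haveI := hprime
  set S := P.primeCompl with hS
  set B := Localization.AtPrime P with hB
  set ML := (ModuleCat.of A I).localizedModule S with hML
  set f : I →ₗ[A] ML := (ModuleCat.of A I).localizedModuleMkLinearMap S with hf
  haveI : IsLocalizedModule S f := ModuleCat.localizedModule_isLocalizedModule _ S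
  set w : B := algebraMap A B z with hw
  have hmemP : ∀ r : A, r ∈ P ↔ r * z = 0 := by
    intro r
    rw [hz, Submodule.mem_colon_singleton, Submodule.mem_bot, smul_eq_mul]
  have hw0 : w ≠ 0 := by
    intro h0
    obtain ⟨m, hm⟩ := (IsLocalization.map_eq_zero_iff S B z).mp h0
    exact m.2 ((hmemP _).mpr hm)
  have hmw : ∀ a ∈ maximalIdeal B, a * w = 0 := by
    intro a ha
    rw [← Localization.AtPrime.map_eq_maximalIdeal] at ha
    obtain ⟨⟨⟨r, hr⟩, t⟩, hrt⟩ := (IsLocalization.mem_map_algebraMap_iff S B).mp ha
    have hu : IsUnit (algebraMap A B t) := IsLocalization.map_units B t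
    have h1 : a * w * algebraMap A B t = 0 := by
      have : a * w * algebraMap A B t = (a * algebraMap A B t) * w := by ring
      rw [this, hrt, hw, ← map_mul, (hmemP r).mp hr, map_zero]
    exact (hu.mul_left_eq_zero).mp h1
  haveI : Module.Finite B ML := Module.Finite.of_isLocalizedModule S f
  haveI : HasProjectiveDimensionLE (ModuleCat.of A I) n :=
    hasProjectiveDimensionLT_of_ge _ n (n + 1) (Nat.le_succ n)
  have hpdL : HasProjectiveDimensionLT (ModuleCat.of B ML) (n + 1) :=
    ModuleCat.localizedModule_hasProjectiveDimensionLE n S (ModuleCat.of A I)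
  haveI : Module.Free B ML := free_of_hasProjectiveDimensionLT w hw0 hmw (n + 1) ML hpdL
  have hkill : ∀ y : ML, w • y = 0 := by
    intro y
    obtain ⟨⟨i, t⟩, rfl⟩ := IsLocalizedModule.mk'_surjective S f y
    have hu : IsUnit (algebraMap A (Module.End A ML) t) := IsLocalizedModule.map_units f t
    have h1 : (t : A) • (w • IsLocalizedModule.mk' f i t) = 0 := by
      rw [smul_comm, ← Submonoid.smul_def, IsLocalizedModule.mk'_cancel', hw, algebraMap_smul,
        ← map_smul]
      have : z • i = 0 := by
        apply Subtype.ext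
        show z * (i : A) = 0
        rw [mul_comm]
        exact (hmemP _).mp (hIP i.2)
      rw [this, map_zero]
    have h2 := (Module.End.isUnit_iff _).mp hu
    apply h2.1
    rw [Module.algebraMap_end_apply, Module.algebraMap_end_apply, smul_zero]
    exact h1
  haveI := subsingleton_of_free_of_smul_eq_zero ML w hw0 hkill
  have h3 : f ⟨x₁, hx₁⟩ = f 0 := Subsingleton.elim _ _
  obtain ⟨c, hc⟩ := IsLocalizedModule.exists_of_eq (S := S) (f := f) h3
  rw [smul_zero] at hc
  have hc' : (c : A) * x₁ = 0 := by
    have := congrArg Subtype.val hc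
    simpa [Submonoid.smul_def] using this
  exact c.2 (hIP (hann _ hc'))

end Groth.Agent.Lib.Helper85.Vasc
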