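import Mathlib

/-!
# Functionals `J → B/J` and their descent to quotient rings (helper85)
-/

set_option autoImplicit false
set_option linter.style.haveILetI false
universe u

namespace Groth.Agent.Lib.Helper85.Vasc

open CategoryTheory

variable {B : Type u} [CommRing B]

theorem smul_quotient_eq_zero (J : Ideal B) {m : B} (hm : m ∈ J) (q : B ⧸ J) : m • q = 0 := by
  obtain ⟨t, rfl⟩ := Ideal.Quotient.mk_surjective q
  rw [← Ideal.Quotient.mk_eq_mk, ← Submodule.Quotient.mk_smul, Ideal.Quotient.mk_eq_mk,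
    Ideal.Quotient.eq_zero_iff_mem, smul_eq_mul]
  exact J.mul_mem_right _ hm

/-- a linear functional `J → B/J` kills `J²` -/
theorem apply_eq_zero_of_mem_sq (J : Ideal B) (θ : J →ₗ[B] B ⧸ J) (b : J)
    (hb : (b : B) ∈ J ^ 2) : θ b = 0 := by
  obtain ⟨b, hbJ⟩ := b
  have key : ∃ h : b ∈ J, θ ⟨b, h⟩ = 0 := by
    rw [pow_two] at hb
    refine Submodule.mul_induction_on (C := fun r => ∃ h : r ∈ J, θ ⟨r, h⟩ = 0) hb ?_ ?_
    · intro m hm n hn
      refine ⟨J.mul_mem_left _ hn, ?_⟩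
      have : (⟨m * n, J.mul_mem_left _ hn⟩ : J) = m • ⟨n, hn⟩ := rfl
      rw [this, map_smul]
      exact smul_quotient_eq_zero J hm _
    · rintro x y ⟨hx, hx0⟩ ⟨hy, hy0⟩
      refine ⟨J.add_mem hx hy, ?_⟩
      have : (⟨x + y, J.add_mem hx hy⟩ : J) = ⟨x, hx⟩ + ⟨y, hy⟩ := rfl
      rw [this, map_add, hx0, hy0, add_zero]
  obtain ⟨_, h0⟩ := key
  exact h0

/-- `θ (s • x) = mk s * θ x` -/
theorem apply_smul (J : Ideal B) (θ : J →ₗ[B] B ⧸ J) (s : B) (x : J) :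
    θ (s • x) = Ideal.Quotient.mk J s * θ x := by
  rw [map_smul]
  obtain ⟨t, ht⟩ := Ideal.Quotient.mk_surjective (θ x)
  rw [← ht]
  rfl

/-- descent of a functional `θ : J → B/J` vanishing on `K ⊆ J` to the quotient ring `B/K` -/
theorem exists_descend (J K : Ideal B) (θ : J →ₗ[B] B ⧸ J)
    (hθ : ∀ b : J, (b : B) ∈ K → θ b = 0) :
    ∃ θ' : (J.map (algebraMap B (B ⧸ K))) →ₗ[B ⧸ K]
        (B ⧸ K) ⧸ J.map (algebraMap B (B ⧸ K)),
      ∀ b : J, θ' (Algebra.idealMap (B ⧸ K) J b) =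
        Ideal.quotientMap (J.map (algebraMap B (B ⧸ K))) (algebraMap B (B ⧸ K))
          Ideal.le_comap_map (θ b) := by
  set J' := J.map (algebraMap B (B ⧸ K)) with hJ'
  let ι : B ⧸ J →ₗ[B] (B ⧸ K) ⧸ J' :=
    (Ideal.quotientMapₐ J' (Algebra.ofId B (B ⧸ K)) Ideal.le_comap_map).toLinearMap
  let g : J →ₗ[B] (B ⧸ K) ⧸ J' := ι ∘ₗ θ
  let f : J →ₗ[B] J' := Algebra.idealMap (B ⧸ K) J
  have hsurj : Function.Surjective f := by
    rintro ⟨j', hj'⟩
    obtain ⟨b, hb, rfl⟩ := (Ideal.mem_map_iff_of_surjective _ Ideal.Quotient.mk_surjective).mp hj'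
    exact ⟨⟨b, hb⟩, rfl⟩
  have hker : LinearMap.ker f ≤ LinearMap.ker g := by
    intro b hb
    rw [LinearMap.mem_ker] at hb ⊢
    have h1 : algebraMap B (B ⧸ K) (b : B) = 0 := congrArg Subtype.val hb
    have h2 : (b : B) ∈ K := Ideal.Quotient.eq_zero_iff_mem.mp h1
    show ι (θ b) = 0
    rw [hθ b h2, map_zero]
  let θ₀ : J' →ₗ[B] (B ⧸ K) ⧸ J' :=
    (Submodule.liftQ (LinearMap.ker f) g hker) ∘ₗ (f.quotKerEquivOfSurjective hsurj).symm.toLinearMap
  refine ⟨θ₀.extendScalarsOfSurjective Ideal.Quotient.mk_surjective, fun b => ?_⟩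
  rw [LinearMap.extendScalarsOfSurjective_apply]
  show Submodule.liftQ (LinearMap.ker f) g hker ((f.quotKerEquivOfSurjective hsurj).symm (f b)) = _
  rw [LinearMap.quotKerEquivOfSurjective_symm_apply, Submodule.liftQ_apply]
  rfl

end Groth.Agent.Lib.Helper85.Vasc
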