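import Groth.Agent.Lib.Helper85.Vasc.AssPrime
import Groth.Agent.Lib.Helper85.Vasc.Descend

/-!
# Prime avoidance step in Vasconcelos' theorem (helper85)
-/

set_option autoImplicit false
set_option linter.style.haveILetI false
universe u

namespace Groth.Agent.Lib.Helper85.Vasc

open CategoryTheory IsLocalRing

variable {B : Type u} [CommRing B]

theorem mem_of_mul_eq_zero (J : Ideal B) (x₀ : B) (hx₀ : x₀ ∈ J) (ψ : J →ₗ[B] B ⧸ J)
    (hψ : ψ ⟨x₀, hx₀⟩ = 1) (s : B) (hs : s * x₀ ∈ J ^ 2) : s ∈ J := by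
  have h1 : ψ (s • ⟨x₀, hx₀⟩) = 0 :=
    apply_eq_zero_of_mem_sq J ψ _ (by simpa using hs)
  rw [apply_smul, hψ, mul_one] at h1
  exact Ideal.Quotient.eq_zero_iff_mem.mp h1

variable [IsLocalRing B] [IsNoetherianRing B]

theorem exists_nzd (J : Ideal B) (hJ : J ≠ ⊤) (n : ℕ)
    (hpd : HasProjectiveDimensionLT (ModuleCat.of B J) n)
    (x₀ : B) (hx₀ : x₀ ∈ J) (ψ : J →ₗ[B] B ⧸ J) (hψ : ψ ⟨x₀, hx₀⟩ = 1) :
    ∃ y₀ ∈ J, y₀ - x₀ ∈ J ^ 2 ∧ y₀ ∈ nonZeroDivisors B := by
  classical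
  have hJm : J ≤ maximalIdeal B := le_maximalIdeal hJ
  have hann : ∀ s : B, s * x₀ = 0 → s ∈ J := fun s hs =>
    mem_of_mul_eq_zero J x₀ hx₀ ψ hψ s (by rw [hs]; exact Ideal.zero_mem _)
  have hass : ∀ P ∈ associatedPrimes B B, ¬ J ≤ P := fun P hP =>
    not_le_of_mem_associatedPrimes J n hpd x₀ hx₀ hann P hP
  set N₀ : Ideal B := Ideal.span {x₀} ⊔ J ^ 2 with hN₀
  set Q₀ : Ideal B := maximalIdeal B * Ideal.span {x₀} ⊔ J ^ 2 with hQ₀
  have hfin : (insert Q₀ (associatedPrimes B B)).Finite :=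
    (associatedPrimes.finite B B).insert Q₀
  have hnot : ¬ ∃ i ∈ insert Q₀ (associatedPrimes B B), N₀ ≤ id i := by
    rintro ⟨P, hP, hle⟩
    rcases Set.mem_insert_iff.mp hP with rfl | hP
    · -- `x₀ ∈ m x₀ + J²`
      have hx : x₀ ∈ Q₀ := hle (Ideal.mem_sup_left (Ideal.subset_span rfl))
      obtain ⟨u, hu, j, hj, huj⟩ := Submodule.mem_sup.mp hx
      obtain ⟨c, hc, rfl⟩ := Ideal.mem_mul_span_singleton.mp hu
      have h1 : (1 - c) * x₀ ∈ J ^ 2 := by
        have : (1 - c) * x₀ = j := by linear_combination -huj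
        rw [this]; exact hj
      have h2 : 1 - c ∈ J := mem_of_mul_eq_zero J x₀ hx₀ ψ hψ _ h1
      have h3 : (1 : B) ∈ maximalIdeal B := by
        have := Ideal.add_mem _ (hJm h2) hc
        simpa using this
      exact (Ideal.ne_top_iff_one _).mp (maximalIdeal.isMaximal B).ne_top h3
    · have hprime : P.IsPrime := (AssociatedPrimes.mem_iff.mp hP).isPrime
      have h1 : J ^ 2 ≤ P := le_trans le_sup_right hle
      exact hass P hP (hprime.le_of_pow_le h1)
  have hsub := (Ideal.subset_union_prime_finite hfin (f := id) Q₀ Q₀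
    (fun i hi h1 _ => by
      rcases Set.mem_insert_iff.mp hi with rfl | hi
      · exact absurd rfl h1
      · exact (AssociatedPrimes.mem_iff.mp hi).isPrime) (I := N₀)).not.mpr hnot
  rw [Set.not_subset] at hsub
  obtain ⟨y, hyN, hy⟩ := hsub
  have hyQ : y ∉ Q₀ := fun h => hy (Set.mem_biUnion (Set.mem_insert _ _) h)
  have hyP : ∀ P ∈ associatedPrimes B B, y ∉ P := fun P hP h =>
    hy (Set.mem_biUnion (Set.mem_insert_of_mem _ hP) h)
  obtain ⟨u, hu, j, hj, huj⟩ := Submodule.mem_sup.mp hyN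
  obtain ⟨c, rfl⟩ := Ideal.mem_span_singleton'.mp hu
  have hc : IsUnit c := by
    by_contra hc
    have hcm : c ∈ maximalIdeal B := (mem_maximalIdeal c).mpr hc
    apply hyQ
    rw [← huj]
    exact Ideal.add_mem _ (Ideal.mem_sup_left (Ideal.mul_mem_mul hcm (Ideal.subset_span rfl)))
      (Ideal.mem_sup_right hj)
  obtain ⟨v, hv⟩ := hc.exists_left_inv
  refine ⟨v * y, ?_, ?_, ?_⟩
  · apply Ideal.mul_mem_left
    rw [← huj]
    exact Ideal.add_mem _ (Ideal.mul_mem_left _ _ hx₀) (Ideal.pow_le_self two_ne_zero hj)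
  · have : v * y - x₀ = v * j := by
      rw [← huj]
      linear_combination x₀ * hv
    rw [this]
    exact Ideal.mul_mem_left _ _ hj
  · have hnot : v * y ∉ ⋃ p ∈ associatedPrimes B B, (p : Set B) := by
      intro h
      obtain ⟨P, hP, hmem⟩ := Set.mem_iUnion₂.mp h
      have hprime : P.IsPrime := (AssociatedPrimes.mem_iff.mp hP).isPrime
      rcases hprime.mem_or_mem hmem with h1 | h1
      · have : (1 : B) ∈ P := by
          rw [← hv]; exact Ideal.mul_mem_right _ _ h1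
        exact hprime.ne_top ((Ideal.eq_top_iff_one _).mpr this)
      · exact hyP P hP h1
    rw [biUnion_associatedPrimes_eq_compl_nonZeroDivisors] at hnot
    simpa using hnot

end Groth.Agent.Lib.Helper85.Vasc
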