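import Mathlib

/-!
# Finite projective dimension over a depth-zero local ring (helper85)

`A` Noetherian local with `m = ann w`, `w ≠ 0`.  Every finite `A`-module of finite projective
dimension is free.
-/

set_option autoImplicit false
set_option linter.style.haveILetI false
universe u

namespace Groth.Agent.Lib.Helper85.Vasc

open CategoryTheory IsLocalRing

variable {A : Type u} [CommRing A]

/-- A minimal presentation of a finite module over a local ring. -/
theorem exists_minimal_presentation [IsLocalRing A] (M : Type u) [AddCommGroup M] [Module A M]
    [Module.Finite A M] :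
    ∃ (n : ℕ) (π : (Fin n → A) →ₗ[A] M), Function.Surjective π ∧
      LinearMap.ker π ≤ (maximalIdeal A • ⊤ : Submodule A (Fin n → A)) := by
  let k := ResidueField A
  let V := TensorProduct A k M
  let w := Module.finBasis k V
  have hsurj : Function.Surjective (TensorProduct.mk A k M 1) :=
    TensorProduct.mk_surjective A M k Ideal.Quotient.mk_surjective
  choose v hv using fun i => hsurj (w i)
  have hspan : Submodule.span A (Set.range v) = ⊤ :=
    IsLocalRing.span_eq_top_of_tmul_eq_basis v w hv
  refine ⟨Module.finrank k V, Fintype.linearCombination A v, ?_, ?_⟩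
  · rw [← LinearMap.range_eq_top, Fintype.range_linearCombination, hspan]
  · intro a ha
    rw [LinearMap.mem_ker, Fintype.linearCombination_apply] at ha
    have h1 : ∑ i, (residue A (a i)) • w i = 0 := by
      have h2 := congrArg (TensorProduct.mk A k M 1) ha
      rw [map_sum, map_zero] at h2
      rw [← h2]
      refine Finset.sum_congr rfl fun i _ => ?_
      rw [map_smul, hv i]
      rfl
    have h3 := Fintype.linearIndependent_iff.1 w.linearIndependent _ h1
    have hmem : ∀ i, a i ∈ maximalIdeal A := fun i => by
      have := h3 i
      rwa [residue_eq_zero_iff] at this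
    rw [pi_eq_sum_univ' a]
    apply Submodule.sum_mem
    intro i _
    exact Submodule.smul_mem_smul (hmem i) Submodule.mem_top

/-- a free module killed by a nonzero scalar is trivial -/
theorem subsingleton_of_free_of_smul_eq_zero (M : Type u) [AddCommGroup M] [Module A M]
    [Module.Free A M] (w : A) (hw : w ≠ 0) (h : ∀ x : M, w • x = 0) : Subsingleton M := by
  let b := Module.Free.chooseBasis A M
  by_cases hI : IsEmpty (Module.Free.ChooseBasisIndex A M)
  · exact b.repr.toEquiv.subsingleton
  · rw [not_isEmpty_iff] at hI
    obtain ⟨i⟩ := hI
    exfalso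
    apply hw
    have h1 := congrArg (fun y => b.repr y i) (h (b i))
    simpa using h1

variable [IsLocalRing A] [IsNoetherianRing A]

theorem free_of_hasProjectiveDimensionLT_succ (w : A) (hw : w ≠ 0)
    (hmw : ∀ a ∈ maximalIdeal A, a * w = 0) :
    ∀ (n : ℕ) (M : Type u) [AddCommGroup M] [Module A M] [Module.Finite A M],
      HasProjectiveDimensionLT (ModuleCat.of A M) (n + 1) → Module.Free A M := by
  intro n
  induction n with
  | zero =>
    intro M _ _ _ h
    rw [zero_add, ← projective_iff_hasProjectiveDimensionLT_one,
      ← IsProjective.iff_projective] at h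
    exact Module.free_of_flat_of_isLocalRing
  | succ n ih =>
    intro M _ _ _ h
    obtain ⟨k, π, hπ, hker⟩ := exists_minimal_presentation (A := A) M
    have hex : Function.Exact (LinearMap.ker π).subtype π := LinearMap.exact_subtype_ker_map π
    have hi : Function.Injective (LinearMap.ker π).subtype := Submodule.injective_subtype _
    have hS : (ModuleCat.shortComplexOfCompEqZero (LinearMap.ker π).subtype π
        hex.linearMap_comp_eq_zero).ShortExact :=
      ModuleCat.shortComplex_shortExact _ hex hi hπ
    have hK : HasProjectiveDimensionLT (ModuleCat.of A (LinearMap.ker π)) (n + 1) := by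
      refine (hS.hasProjectiveDimensionLT_X₃_iff n ?_).mp h
      change Projective (ModuleCat.of A (Fin k → A))
      rw [← IsProjective.iff_projective]
      infer_instance
    haveI : Module.Free A (LinearMap.ker π) := ih (LinearMap.ker π) hK
    have hkill : ∀ x : LinearMap.ker π, w • x = 0 := by
      rintro ⟨x, hx⟩
      apply Subtype.ext
      show w • x = 0
      have hx' := hker hx
      refine Submodule.smul_induction_on hx' ?_ ?_
      · intro a ha y _
        rw [smul_smul, mul_comm, hmw a ha, zero_smul]
      · intro y z hy hz
        rw [smul_add, hy, hz, add_zero]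
    haveI := subsingleton_of_free_of_smul_eq_zero (LinearMap.ker π) w hw hkill
    have hinj : Function.Injective π := by
      rw [← LinearMap.ker_eq_bot]
      exact Submodule.eq_bot_of_subsingleton
    exact Module.Free.of_equiv (LinearEquiv.ofBijective π ⟨hinj, hπ⟩)

theorem free_of_hasProjectiveDimensionLT (w : A) (hw : w ≠ 0)
    (hmw : ∀ a ∈ maximalIdeal A, a * w = 0)
    (n : ℕ) (M : Type u) [AddCommGroup M] [Module A M] [Module.Finite A M]
    (h : HasProjectiveDimensionLT (ModuleCat.of A M) n) : Module.Free A M :=
  free_of_hasProjectiveDimensionLT_succ w hw hmw n M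
    (hasProjectiveDimensionLT_of_ge _ n (n + 1) (Nat.le_succ n))

end Groth.Agent.Lib.Helper85.Vasc
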