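import Groth.Agent.Lib.Helper85.Vasc.Local

/-!
# From a projective conormal module to split data in a localization (helper85)
-/

set_option autoImplicit false
set_option linter.style.haveILetI false
set_option maxSynthPendingDepth 3
universe u

namespace Groth.Agent.Lib.Helper85.Vasc

open CategoryTheory IsLocalRing

theorem exists_splitData_of_projective {R : Type u} [CommRing R] [IsNoetherianRing R]
    (I : Ideal R) [Module.Projective (R ⧸ I) I.Cotangent] :
    ∃ (N : ℕ) (a : Fin N → R) (ψ : Fin N → (I →ₗ[R] R ⧸ I)), SplitData I N a ψ := by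
  haveI : Module.Finite R I.Cotangent :=
    Module.Finite.of_surjective I.toCotangent I.toCotangent_surjective
  haveI : Module.Finite (R ⧸ I) I.Cotangent := Module.Finite.of_restrictScalars_finite R _ _
  obtain ⟨N, π, hπ⟩ := Module.Finite.exists_fin' (R ⧸ I) I.Cotangent
  obtain ⟨σ, hσ⟩ := Module.projective_lifting_property π LinearMap.id hπ
  choose a' ha' using fun k : Fin N => I.toCotangent_surjective (π (Pi.single k 1))
  let ψ : Fin N → (I →ₗ[R] R ⧸ I) := fun k =>
    ((LinearMap.proj k ∘ₗ σ).restrictScalars R) ∘ₗ I.toCotangent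
  refine ⟨N, fun k => (a' k : R), ψ, fun k => (a' k).2, ?_⟩
  intro b c hc
  have hmem : (b : R) - ∑ k, c k * (a' k : R) = ((b - ∑ k, c k • a' k : I) : R) := by
    simp
  rw [hmem, ← Ideal.toCotangent_eq_zero, map_sub, map_sum]
  have h1 : ∀ k, I.toCotangent (c k • a' k) = (σ (I.toCotangent b) k) • π (Pi.single k 1) := by
    intro k
    rw [map_smul, ha']
    have : σ (I.toCotangent b) k = Ideal.Quotient.mk I (c k) := (hc k).symm
    rw [this]
    rfl
  rw [Finset.sum_congr rfl fun k _ => h1 k]
  have h2 : ∑ k, (σ (I.toCotangent b) k) • π (Pi.single k 1) = π (σ (I.toCotangent b)) := by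
    conv_rhs => rw [pi_eq_sum_univ' (σ (I.toCotangent b))]
    rw [map_sum]
    exact Finset.sum_congr rfl fun k _ => (map_smul _ _ _).symm
  rw [h2]
  have h3 : π (σ (I.toCotangent b)) = I.toCotangent b := LinearMap.congr_fun hσ _
  rw [h3, sub_self]

theorem isUnit_algebraMap_end_of_isLocalization {R : Type u} [CommRing R] (S : Submonoid R)
    (B : Type u) [CommRing B] [Algebra R B] [IsLocalization S B] (M : Type u) [AddCommGroup M]
    [Module R M] [Module B M] [IsScalarTower R B M] (x : S) :
    IsUnit (algebraMap R (Module.End R M) x) := by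
  rw [Module.End.isUnit_iff]
  obtain ⟨u, hu⟩ := IsLocalization.map_units B x
  have hx : ∀ m : M, (x : R) • m = (u : B) • m := by
    intro m
    rw [hu, algebraMap_smul]
  constructor
  · intro m₁ m₂ h
    simp only [Module.algebraMap_end_apply] at h
    rw [hx, hx] at h
    have := congrArg (fun m => ((u⁻¹ : Bˣ) : B) • m) h
    simpa [smul_smul] using this
  · intro m
    refine ⟨((u⁻¹ : Bˣ) : B) • m, ?_⟩
    simp only [Module.algebraMap_end_apply]
    rw [hx, smul_smul, Units.mul_inv, one_smul]

theorem exists_splitData_localization {R : Type u} [CommRing R] (S : Submonoid R)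
    (B : Type u) [CommRing B] [Algebra R B] [IsLocalization S B] (I : Ideal R) (N : ℕ)
    (a : Fin N → R) (ψ : Fin N → (I →ₗ[R] R ⧸ I)) (h : SplitData I N a ψ) :
    ∃ ψ' : Fin N → (I.map (algebraMap R B) →ₗ[B] B ⧸ I.map (algebraMap R B)),
      SplitData (I.map (algebraMap R B)) N (fun k => algebraMap R B (a k)) ψ' := by
  set J := I.map (algebraMap R B) with hJ
  let f₀ : I →ₗ[R] J := Algebra.idealMap B I
  haveI : IsLocalizedModule S f₀ := inferInstance
  let ι₀ : R ⧸ I →ₗ[R] B ⧸ J :=
    (Ideal.quotientMapₐ J (Algebra.ofId R B) Ideal.le_comap_map).toLinearMap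
  have hunits : ∀ x : S, IsUnit (algebraMap R (Module.End R (B ⧸ J)) x) :=
    fun x => isUnit_algebraMap_end_of_isLocalization S B (B ⧸ J) x
  let ψ' : Fin N → (J →ₗ[B] B ⧸ J) := fun k =>
    (IsLocalizedModule.lift S f₀ (ι₀ ∘ₗ ψ k) hunits).extendScalarsOfIsLocalization S B
  have hψ' : ∀ k (i : I), ψ' k (f₀ i) = ι₀ (ψ k i) := by
    intro k i
    exact IsLocalizedModule.lift_apply S f₀ (ι₀ ∘ₗ ψ k) hunits i
  refine ⟨ψ', fun k => Ideal.mem_map_of_mem _ (h.1 k), ?_⟩
  intro b c hc
  obtain ⟨⟨i, t⟩, hit⟩ := IsLocalizedModule.mk'_surjective S f₀ b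
  have hb : IsLocalizedModule.mk' f₀ i t = b := hit
  have htb : (t : R) • b = f₀ i := by
    rw [← hb, ← Submonoid.smul_def, IsLocalizedModule.mk'_cancel']
  set τ : B := algebraMap R B t with hτ
  obtain ⟨u, hu⟩ := IsLocalization.map_units B t
  choose c₀ hc₀ using fun k => Ideal.Quotient.mk_surjective (ψ k i)
  have S0 := h.2 i c₀ hc₀
  have S0' : algebraMap R B ((i : R) - ∑ k, c₀ k * a k) ∈ J ^ 2 := by
    rw [hJ, ← Ideal.map_pow]
    exact Ideal.mem_map_of_mem _ S0
  have hdiff : ∀ k, τ * c k - algebraMap R B (c₀ k) ∈ J := by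
    intro k
    have h1 : ψ' k ((t : R) • b) = ι₀ (ψ k i) := by rw [htb, hψ']
    have h2 : ψ' k ((t : R) • b) = Ideal.Quotient.mk J (τ * c k) := by
      have : (t : R) • b = τ • b := by rw [hτ, algebraMap_smul]
      rw [this, apply_smul, map_mul, hc k]
    have h3 : ι₀ (ψ k i) = Ideal.Quotient.mk J (algebraMap R B (c₀ k)) := by
      rw [← hc₀ k]; rfl
    rw [← Ideal.Quotient.eq, ← h2, h1, h3]
  have hτb : τ * (b : B) = algebraMap R B (i : R) := by
    have h5 : ((t : R) • (b : B)) = algebraMap R B (i : R) := congrArg Subtype.val htb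
    rw [Algebra.smul_def] at h5
    exact h5
  have key : τ * ((b : B) - ∑ k, c k * algebraMap R B (a k)) ∈ J ^ 2 := by
    have hid : τ * ((b : B) - ∑ k, c k * algebraMap R B (a k))
        = algebraMap R B ((i : R) - ∑ k, c₀ k * a k)
          - ∑ k, (τ * c k - algebraMap R B (c₀ k)) * algebraMap R B (a k) := by
      rw [mul_sub, hτb, map_sub, map_sum, Finset.mul_sum, sub_sub, ← Finset.sum_add_distrib]
      congr 1
      refine Finset.sum_congr rfl fun k _ => ?_
      rw [map_mul]
      ring
    rw [hid]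
    refine Ideal.sub_mem _ S0' (Ideal.sum_mem _ fun k _ => ?_)
    rw [pow_two]
    exact Ideal.mul_mem_mul (hdiff k) (Ideal.mem_map_of_mem _ (h.1 k))
  have : (b : B) - ∑ k, c k * algebraMap R B (a k)
      = ((u⁻¹ : Bˣ) : B) * (τ * ((b : B) - ∑ k, c k * algebraMap R B (a k))) := by
    rw [← mul_assoc, hτ, ← hu, Units.inv_mul, one_mul]
  rw [this]
  exact Ideal.mul_mem_left _ _ key

theorem hasProjectiveDimensionLT_map_atPrime {R : Type u} [CommRing R] (I : Ideal R) (n : ℕ)
    (hpd : HasProjectiveDimensionLT (ModuleCat.of R I) n) (p : Ideal R) [p.IsPrime] :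
    HasProjectiveDimensionLT (ModuleCat.of (Localization.AtPrime p)
      (I.map (algebraMap R (Localization.AtPrime p)))) (n + 1) := by
  set S := p.primeCompl with hS
  set B := Localization.AtPrime p with hB
  set ML := (ModuleCat.of R I).localizedModule S with hML
  let g : I →ₗ[R] ML := (ModuleCat.of R I).localizedModuleMkLinearMap S
  haveI : IsLocalizedModule S g := ModuleCat.localizedModule_isLocalizedModule _ S
  let f₀ : I →ₗ[R] I.map (algebraMap R B) := Algebra.idealMap B I
  haveI : IsLocalizedModule S f₀ := inferInstance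
  haveI : HasProjectiveDimensionLE (ModuleCat.of R I) n :=
    hasProjectiveDimensionLT_of_ge _ n (n + 1) (Nat.le_succ n)
  have hpdL : HasProjectiveDimensionLT ML (n + 1) :=
    ModuleCat.localizedModule_hasProjectiveDimensionLE n S (ModuleCat.of R I)
  let e : ML ≃ₗ[B] I.map (algebraMap R B) :=
    (IsLocalizedModule.linearEquiv S g f₀).extendScalarsOfIsLocalization S B
  exact hasProjectiveDimensionLT_of_iso e.toModuleIso (n + 1)

end Groth.Agent.Lib.Helper85.Vasc
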