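import Groth.Agent.Lib.Helper85.Vasc.Avoid
import Groth.Agent.Lib.Helper85.Vasc.PdStep
import Groth.Agent.Lib.Helper85.RegularSeq
import Groth.Agent.Lib.Helper85.RegularGens

/-!
# Vasconcelos' theorem, local form (helper85)

`B` Noetherian local, `J` a proper ideal of finite projective dimension with `J/J²` projective
over `B/J`, the latter given in split form: elements `a k ∈ J` and functionals `ψ k : J → B/J`
with `b ≡ ∑ ψ k (b) a k mod J²`.  Then `J` is generated by a regular sequence.
-/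

set_option autoImplicit false
set_option linter.style.haveILetI false
set_option maxSynthPendingDepth 3
universe u

namespace Groth.Agent.Lib.Helper85.Vasc

open CategoryTheory IsLocalRing RingTheory.Sequence

/-- split-projective data for `J/J²` -/
def SplitData {B : Type u} [CommRing B] (J : Ideal B) (N : ℕ) (a : Fin N → B)
    (ψ : Fin N → (J →ₗ[B] B ⧸ J)) : Prop :=
  (∀ k, a k ∈ J) ∧ ∀ (b : J) (c : Fin N → B), (∀ k, Ideal.Quotient.mk J (c k) = ψ k b) →
    (b : B) - ∑ k, c k * a k ∈ J ^ 2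

theorem exists_lift_list {B : Type u} [CommRing B] (K : Ideal B) (rs' : List (B ⧸ K)) :
    ∃ rs : List B, rs.map (Ideal.Quotient.mk K) = rs' := by
  induction rs' with
  | nil => exact ⟨[], rfl⟩
  | cons r rs ih =>
    obtain ⟨l, hl⟩ := ih
    obtain ⟨t, ht⟩ := Ideal.Quotient.mk_surjective r
    exact ⟨t :: l, by rw [List.map_cons, ht, hl]⟩

theorem eq_bot_of_splitData_zero {B : Type u} [CommRing B] [IsLocalRing B] [IsNoetherianRing B]
    (J : Ideal B) (hJ : J ≠ ⊤) (h : ∀ b ∈ J, b ∈ maximalIdeal B * J) : J = ⊥ := by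
  apply Submodule.eq_bot_of_le_smul_of_le_jacobson_bot (maximalIdeal B) J
    (IsNoetherian.noetherian J)
  · intro b hb
    rw [Ideal.smul_eq_mul]
    exact h b hb
  · rw [IsLocalRing.jacobson_eq_maximalIdeal ⊥ bot_ne_top]

theorem vasc_local : ∀ (N : ℕ) (B : Type u) [CommRing B] [IsLocalRing B] [IsNoetherianRing B]
    (J : Ideal B) (_ : J ≠ ⊤) (n : ℕ) (_ : HasProjectiveDimensionLT (ModuleCat.of B J) n)
    (a : Fin N → B) (ψ : Fin N → (J →ₗ[B] B ⧸ J)) (_ : SplitData J N a ψ),
    ∃ rs : List B, IsRegular B rs ∧ Ideal.ofList rs = J := by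
  intro N
  induction N with
  | zero =>
    intro B _ _ _ J hJ n hpd a ψ hsd
    have hJm : J ≤ maximalIdeal B := le_maximalIdeal hJ
    have hbot : J = ⊥ := by
      apply eq_bot_of_splitData_zero J hJ
      intro b hb
      have := hsd.2 ⟨b, hb⟩ (fun k => k.elim0) (fun k => k.elim0)
      simp only [Finset.univ_eq_empty, Finset.sum_empty, sub_zero] at this
      rw [pow_two] at this
      exact Ideal.mul_mono_left hJm this
    refine ⟨[], IsRegular.nil B B, ?_⟩
    rw [Ideal.ofList_nil, hbot]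
  | succ N ih =>
    intro B _ _ _ J hJ n hpd a ψ hsd
    classical
    have hJm : J ≤ maximalIdeal B := le_maximalIdeal hJ
    obtain ⟨ha, hsplit⟩ := hsd
    by_cases hbot : J = ⊥
    · refine ⟨[], IsRegular.nil B B, ?_⟩
      rw [Ideal.ofList_nil, hbot]
    -- Step 1: some `ψ k (a l)` is a unit
    have hunit : ∃ k l, IsUnit (ψ k ⟨a l, ha l⟩) := by
      by_contra hcon
      push Not at hcon
      apply hbot
      choose c' hc' using fun (k : Fin (N + 1)) (l : Fin (N + 1)) =>
        Ideal.Quotient.mk_surjective (ψ k ⟨a l, ha l⟩)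
      have hc'm : ∀ k l, c' k l ∈ maximalIdeal B := by
        intro k l
        rw [mem_maximalIdeal]
        intro hu
        apply hcon k l
        rw [← hc']
        exact hu.map _
      have hJ2 : J ^ 2 ≤ maximalIdeal B * J := by
        rw [pow_two]; exact Ideal.mul_mono_left hJm
      have hal : ∀ l, a l ∈ maximalIdeal B * J := by
        intro l
        have h1 := hsplit ⟨a l, ha l⟩ (fun k => c' k l) (fun k => hc' k l)
        have h2 : ∑ k, c' k l * a k ∈ maximalIdeal B * J :=
          Ideal.sum_mem _ fun k _ => Ideal.mul_mem_mul (hc'm k l) (ha k)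
        have : a l = (a l - ∑ k, c' k l * a k) + ∑ k, c' k l * a k := by ring
        rw [this]
        exact Ideal.add_mem _ (hJ2 h1) h2
      apply eq_bot_of_splitData_zero J hJ
      intro b hb
      choose c hc using fun (k : Fin (N + 1)) => Ideal.Quotient.mk_surjective (ψ k ⟨b, hb⟩)
      have h1 := hsplit ⟨b, hb⟩ c hc
      have h2 : ∑ k, c k * a k ∈ maximalIdeal B * J :=
        Ideal.sum_mem _ fun k _ => Ideal.mul_mem_left _ _ (hal k)
      have : b = (b - ∑ k, c k * a k) + ∑ k, c k * a k := by ring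
      rw [this]
      exact Ideal.add_mem _ (hJ2 h1) h2
    obtain ⟨k₀, l, hu⟩ := hunit
    -- Step 2: normalise
    obtain ⟨q, hq⟩ := hu.exists_left_inv
    obtain ⟨v, rfl⟩ := Ideal.Quotient.mk_surjective q
    set ψ₀ : J →ₗ[B] B ⧸ J := v • ψ k₀ with hψ₀
    have hsmul : ∀ (t : B) (q : B ⧸ J), t • q = Ideal.Quotient.mk J t * q := by
      intro t q
      obtain ⟨r, rfl⟩ := Ideal.Quotient.mk_surjective q
      rfl
    have hψ₀a : ψ₀ ⟨a l, ha l⟩ = 1 := by
      show v • ψ k₀ ⟨a l, ha l⟩ = 1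
      rw [hsmul]; exact hq
    -- Step 3: a nonzerodivisor
    obtain ⟨y₀, hy₀J, hy₀x, hy₀nzd⟩ := exists_nzd J hJ n hpd (a l) (ha l) ψ₀ hψ₀a
    have hψ₀y : ψ₀ ⟨y₀, hy₀J⟩ = 1 := by
      have : (⟨y₀, hy₀J⟩ : J) = ⟨a l, ha l⟩ + ⟨y₀ - a l, J.sub_mem hy₀J (ha l)⟩ := by
        ext; simp
      rw [this, map_add, hψ₀a, apply_eq_zero_of_mem_sq J ψ₀ _ hy₀x, add_zero]
    have hreg : IsSMulRegular B y₀ := Module.Flat.isSMulRegular_of_nonZeroDivisors hy₀nzd
    -- Step 4: the quotient ring
    set K : Ideal B := Ideal.span {y₀} with hK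
    have hKJ : K ≤ J := (Ideal.span_singleton_le_iff_mem J).mpr hy₀J
    have hKtop : K ≠ ⊤ := fun h => hJ (top_le_iff.mp (h ▸ hKJ))
    haveI : IsLocalRing (B ⧸ K) := isLocalRing_quotient K hKtop
    set J' := J.map (algebraMap B (B ⧸ K)) with hJ'
    have hcomap : J'.comap (algebraMap B (B ⧸ K)) = J := by
      have h1 : RingHom.ker (algebraMap B (B ⧸ K)) = K := Ideal.mk_ker
      rw [hJ', Ideal.comap_map_of_surjective (algebraMap B (B ⧸ K)) Ideal.Quotient.mk_surjective,
        ← RingHom.ker_eq_comap_bot, h1]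
      exact sup_eq_left.mpr hKJ
    have hJ'top : J' ≠ ⊤ := by
      intro h
      apply hJ
      rw [← hcomap, h, Ideal.comap_top]
    have hpd' : HasProjectiveDimensionLT (ModuleCat.of (B ⧸ K) J') (n + 1) :=
      hasProjectiveDimensionLT_map_quotient J y₀ hy₀J hreg ψ₀ hψ₀y n
        (hasProjectiveDimensionLT_of_ge _ n (n + 1) (Nat.le_succ n))
    -- new functionals
    choose d hd using fun k => Ideal.Quotient.mk_surjective (ψ k ⟨y₀, hy₀J⟩)
    let θ : Fin N → (J →ₗ[B] B ⧸ J) := fun i => ψ (l.succAbove i) - d (l.succAbove i) • ψ₀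
    have hθapp : ∀ i (b : J), θ i b = ψ (l.succAbove i) b -
        Ideal.Quotient.mk J (d (l.succAbove i)) * ψ₀ b := by
      intro i b
      show ψ (l.succAbove i) b - d (l.succAbove i) • ψ₀ b = _
      rw [hsmul]
    have hθy : ∀ i, θ i ⟨y₀, hy₀J⟩ = 0 := by
      intro i
      rw [hθapp, hψ₀y, mul_one, hd, sub_self]
    have hθK : ∀ i (b : J), (b : B) ∈ K → θ i b = 0 := by
      intro i b hb
      obtain ⟨t, ht⟩ := Ideal.mem_span_singleton'.mp hb
      have : b = t • (⟨y₀, hy₀J⟩ : J) := Subtype.ext ht.symm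
      rw [this, map_smul, hθy, smul_zero]
    choose θ' hθ' using fun i => exists_descend J K (θ i) (hθK i)
    let a' : Fin N → B ⧸ K := fun i => algebraMap B (B ⧸ K) (a (l.succAbove i))
    have hsd' : SplitData J' N a' θ' := by
      refine ⟨fun i => Ideal.mem_map_of_mem _ (ha _), ?_⟩
      rintro ⟨b', hb'⟩ c' hc'
      obtain ⟨b, hb, rfl⟩ :=
        (Ideal.mem_map_iff_of_surjective _ Ideal.Quotient.mk_surjective).mp hb'
      choose c hc using fun i => Ideal.Quotient.mk_surjective (c' i)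
      have h1 : ∀ i, Ideal.Quotient.mk J (c i) = θ i ⟨b, hb⟩ := by
        intro i
        obtain ⟨e, he⟩ := Ideal.Quotient.mk_surjective (θ i ⟨b, hb⟩)
        have h2 := hc' i
        have h3 : θ' i ⟨Ideal.Quotient.mk K b, hb'⟩ =
            Ideal.quotientMap J' (algebraMap B (B ⧸ K)) Ideal.le_comap_map (θ i ⟨b, hb⟩) :=
          hθ' i ⟨b, hb⟩
        rw [h3, ← he, Ideal.quotientMap_mk, ← hc i, Ideal.Quotient.eq] at h2
        have h4 : c i - e ∈ J := by
          rw [← hcomap, Ideal.mem_comap, map_sub]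
          exact h2
        rw [← he, Ideal.Quotient.eq]
        exact h4
      obtain ⟨β, hβ⟩ := Ideal.Quotient.mk_surjective (ψ₀ ⟨b, hb⟩)
      obtain ⟨γ, hγ⟩ := Ideal.Quotient.mk_surjective (ψ l ⟨b, hb⟩)
      set C : Fin (N + 1) → B := l.insertNth γ (fun i => c i + d (l.succAbove i) * β) with hCdef
      have hC : ∀ k, Ideal.Quotient.mk J (C k) = ψ k ⟨b, hb⟩ := by
        intro k
        rcases Fin.eq_self_or_eq_succAbove l k with rfl | ⟨i, rfl⟩
        · rw [hCdef, Fin.insertNth_apply_same, hγ]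
        · rw [hCdef, Fin.insertNth_apply_succAbove, map_add, map_mul, h1, hθapp, hβ]
          ring
      have S1 := hsplit ⟨b, hb⟩ C hC
      have S2 := hsplit ⟨y₀, hy₀J⟩ d hd
      rw [Fin.sum_univ_succAbove _ l] at S1 S2
      simp only [hCdef, Fin.insertNth_apply_same, Fin.insertNth_apply_succAbove] at S1
      -- the element downstairs
      have hgoal : b - ∑ i, c i * a (l.succAbove i) ∈ J ^ 2 ⊔ K := by
        have hsum : ∑ i, (c i + d (l.succAbove i) * β) * a (l.succAbove i)
            = ∑ i, c i * a (l.succAbove i) + β * ∑ i, d (l.succAbove i) * a (l.succAbove i) := by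
          rw [Finset.mul_sum, ← Finset.sum_add_distrib]
          exact Finset.sum_congr rfl fun i _ => by ring
        have hid : b - ∑ i, c i * a (l.succAbove i) =
            (b - (γ * a l + ∑ i, (c i + d (l.succAbove i) * β) * a (l.succAbove i)))
            + β * (-(y₀ - (d l * a l + ∑ i, d (l.succAbove i) * a (l.succAbove i))))
            + β * y₀ + (γ - β * d l) * (y₀ - (y₀ - a l)) := by
          rw [hsum]
          ring
        rw [hid]
        refine Ideal.add_mem _ (Ideal.add_mem _ (Ideal.add_mem _ ?_ ?_) ?_) ?_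
        · exact Ideal.mem_sup_left S1
        · exact Ideal.mem_sup_left (Ideal.mul_mem_left _ _ ((Ideal.neg_mem_iff _).mpr S2))
        · exact Ideal.mem_sup_right (Ideal.mul_mem_left _ _ (Ideal.subset_span rfl))
        · apply Ideal.mul_mem_left
          exact Ideal.sub_mem _ (Ideal.mem_sup_right (Ideal.subset_span rfl))
            (Ideal.mem_sup_left hy₀x)
      have hmap : (J ^ 2 ⊔ K).map (algebraMap B (B ⧸ K)) = J' ^ 2 := by
        have hKmap : K.map (algebraMap B (B ⧸ K)) = ⊥ := Ideal.map_quotient_self K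
        rw [Ideal.map_sup, Ideal.map_pow, hKmap, sup_bot_eq]
      have := Ideal.mem_map_of_mem (algebraMap B (B ⧸ K)) hgoal
      rw [hmap, map_sub, map_sum] at this
      have hval : ((⟨Ideal.Quotient.mk K b, hb'⟩ : J') : B ⧸ K) - ∑ k, c' k * a' k
          = algebraMap B (B ⧸ K) b - ∑ x, algebraMap B (B ⧸ K) (c x * a (l.succAbove x)) := by
        congr 1
        refine Finset.sum_congr rfl fun i _ => ?_
        rw [map_mul]
        show c' i * a' i = _
        rw [← hc i]
        rfl
      rw [hval]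
      exact this
    obtain ⟨rs', hrs'reg, hrs'⟩ := ih (B ⧸ K) J' hJ'top (n + 1) hpd' a' θ' hsd'
    obtain ⟨rs, rfl⟩ := exists_lift_list K rs'
    refine ⟨y₀ :: rs, ?_, ?_⟩
    · rw [isRegular_cons_iff_quotient]
      exact ⟨hreg, hrs'reg⟩
    · rw [Ideal.ofList_cons]
      have h1 := sup_eq_sup_of_map_mk_eq K (Ideal.ofList rs) J
        (by rw [Ideal.map_ofList]; exact hrs')
      rw [sup_comm, h1]
      exact sup_eq_left.mpr hKJ

end Groth.Agent.Lib.Helper85.Vasc
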